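import Groth.Agent.S9208
import Groth.Agent.EtGlueSp.Basic
import Mathlib.AlgebraicGeometry.AffineTransitionLimit

/-!
# A morphism of algebraic spaces surjective on colimits of points is locally of finite presentation
-/

set_option autoImplicit false

universe u

open CategoryTheory CategoryTheory.Limits AlgebraicGeometry

set_option backward.isDefEq.respectTransparency false

namespace Groth.Agent.LfpLim

open _root_.AlgSp Groth.Agent.AlgSpLib

set_option maxHeartbeats 1600000 in
theorem locP_lfp_of_surj {S : Scheme.{u}} {X Y : Sp S} (hX : IsAlgSpace X) (hY : IsAlgSpace Y) (f : X ⟶ Y)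
    (h : ∀ ⦃I : Type u⦄ [SmallCategory I] [IsCofiltered I] (D : I ⥤ Over S) (c : Cone D),
      IsLimit ((Over.forget S).mapCone c) → (∀ i, IsAffine (D.obj i).left) → IsAffine c.pt.left →
      ∀ (x : (yon S).obj c.pt ⟶ X) (i : I) (y : (yon S).obj (D.obj i) ⟶ Y),
        x ≫ f = (yon S).map (c.π.app i) ≫ y →
        ∃ (i' : I) (φ : i' ⟶ i) (x' : (yon S).obj (D.obj i') ⟶ X),
          (yon S).map (c.π.app i') ≫ x' = x ∧ x' ≫ f = (yon S).map (D.map φ) ≫ y) :
    LocP @LocallyOfFinitePresentation f := by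
  intro U V a b m ha hb e
  refine Groth.Agent.S9208.result m.left fun J _ _ _ D t c hc hD j₀ g hg => ?_
  have htn : ∀ {i j : Jᵒᵖ} (φ : i ⟶ j), D.map φ ≫ t.app j = t.app i := fun φ =>
    (t.naturality φ).trans (Category.comp_id _)
  have hctn : ∀ {i j : Jᵒᵖ} (φ : i ⟶ j), c.π.app j ≫ t.app j = c.π.app i ≫ t.app i := fun φ => by
    rw [← htn φ, ← Category.assoc, c.w]
  let D' : Jᵒᵖ ⥤ Over S :=
    { obj := fun j => Over.mk (t.app j ≫ V.hom)
      map := fun {i j} φ => Over.homMk (D.map φ) (by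
        show D.map φ ≫ t.app j ≫ V.hom = t.app i ≫ V.hom
        rw [reassoc_of% (htn φ)])
      map_id := fun j => Over.OverMorphism.ext (D.map_id j)
      map_comp := fun φ ψ => Over.OverMorphism.ext (D.map_comp φ ψ) }
  let c' : Cone D' :=
    { pt := Over.mk (c.π.app j₀ ≫ t.app j₀ ≫ V.hom)
      π :=
        { app := fun j => Over.homMk (c.π.app j) (by
            show c.π.app j ≫ t.app j ≫ V.hom = c.π.app j₀ ≫ t.app j₀ ≫ V.hom
            obtain ⟨k, φ, ψ, -⟩ := IsCofilteredOrEmpty.cone_objs j j₀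
            rw [← Category.assoc, ← Category.assoc, hctn φ, ← hctn ψ])
          naturality := fun i j φ => Over.OverMorphism.ext ((Category.id_comp _).trans (c.w φ).symm) } }
  have hc' : IsLimit ((Over.forget S).mapCone c') :=
    IsLimit.ofIsoLimit ((IsLimit.postcomposeHomEquiv (NatIso.ofComponents (fun j => Iso.refl (D.obj j))
      (fun φ => by simp [D'])) c).symm hc) (Cone.ext (Iso.refl _) (fun j => by simp [c']))
  let gU : c'.pt ⟶ U := Over.homMk g (by
    show g ≫ U.hom = c.π.app j₀ ≫ t.app j₀ ≫ V.hom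
    rw [← Over.w m, reassoc_of% hg])
  let tV : ∀ j, D'.obj j ⟶ V := fun j => Over.homMk (t.app j) rfl
  have hgV : gU ≫ m = c'.π.app j₀ ≫ tV j₀ := Over.OverMorphism.ext hg
  have htV : ∀ {i j : Jᵒᵖ} (φ : i ⟶ j), D'.map φ ≫ tV j = tV i := fun φ => Over.OverMorphism.ext (htn φ)
  have haff : IsAffine c'.pt.left := by
    have : ∀ {i j : Jᵒᵖ} (φ : i ⟶ j), IsAffineHom (D.map φ) := fun φ => by
      have := hD
      infer_instance
    exact Scheme.isAffine_of_isLimit c hc
  obtain ⟨j₁, φ, x', hx', hxf⟩ := h D' c' hc' hD haff ((yon S).map gU ≫ a) j₀ ((yon S).map (tV j₀) ≫ b) (by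
    rw [Category.assoc, e, ← Functor.map_comp_assoc, ← Functor.map_comp_assoc, hgV])
  rw [← Functor.map_comp_assoc, htV φ] at hxf
  -- the points of the chart over the stage
  obtain ⟨P, p, q, sq⟩ := exists_pullback hX.diag x' a
  obtain ⟨W, w₁, w₂, sqW⟩ := exists_pullback hY.diag b b
  obtain ⟨Δ, hΔ⟩ := exists_map_eq (sqW.lift (𝟙 _) (𝟙 _) rfl)
  have hΔ₁ : Δ ≫ w₁ = 𝟙 V := (yon S).map_injective (by rw [Functor.map_comp, hΔ, sqW.lift_fst, CategoryTheory.Functor.map_id])
  have hΔ₂ : Δ ≫ w₂ = 𝟙 V := (yon S).map_injective (by rw [Functor.map_comp, hΔ, sqW.lift_snd, CategoryTheory.Functor.map_id])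
  have : Etale w₁.left := (repWith_yon_iff w₁).1 (repWith_baseChange sqW.flip hb)
  have : Etale Δ.left := by
    have : Etale (Δ.left ≫ w₁.left) := by
      rw [← Over.comp_left, hΔ₁]
      exact inferInstanceAs (Etale (𝟙 V.left))
    exact Etale.of_comp Δ.left w₁.left
  have : Etale p.left := (repWith_yon_iff p).1 (repWith_baseChange sq.flip ha)
  obtain ⟨l, hl⟩ := exists_map_eq (sqW.lift ((yon S).map (q ≫ m)) ((yon S).map (p ≫ tV j₁)) (by
    rw [Functor.map_comp_assoc, Functor.map_comp_assoc, ← e, ← hxf, ← Category.assoc, ← Category.assoc, sq.w]))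
  have hl₁ : l ≫ w₁ = q ≫ m := (yon S).map_injective (by rw [Functor.map_comp, hl, sqW.lift_fst])
  have hl₂ : l ≫ w₂ = p ≫ tV j₁ := (yon S).map_injective (by rw [Functor.map_comp, hl, sqW.lift_snd])
  obtain ⟨s, hs⟩ := exists_map_eq (sq.lift ((yon S).map (c'.π.app j₁)) ((yon S).map gU) hx')
  have hs₁ : s ≫ p = c'.π.app j₁ := (yon S).map_injective (by rw [Functor.map_comp, hs, sq.lift_fst])
  have hs₂ : s ≫ q = gU := (yon S).map_injective (by rw [Functor.map_comp, hs, sq.lift_snd])
  have hsl : s ≫ l = (c'.π.app j₁ ≫ tV j₁) ≫ Δ := by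
    apply (yon S).map_injective
    apply sqW.hom_ext <;> rw [← Functor.map_comp, ← Functor.map_comp] <;> congr 1
    · rw [Category.assoc, hl₁, ← Category.assoc, hs₂, hgV, Category.assoc, Category.assoc, hΔ₁, Category.comp_id,
        ← c'.w φ, Category.assoc, htV]
    · rw [Category.assoc, hl₂, ← Category.assoc, hs₁, Category.assoc, Category.assoc, hΔ₂, Category.comp_id]
  let E := pullback l.left Δ.left
  let e₀ : E ⟶ D.obj j₁ := pullback.fst _ _ ≫ p.left
  let σ : c.pt ⟶ E := pullback.lift s.left (c'.π.app j₁ ≫ tV j₁).left (congrArg CommaMorphism.left hsl)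
  have hσ : σ ≫ e₀ = c.π.app j₁ := by
    rw [pullback.lift_fst_assoc]
    exact congrArg CommaMorphism.left hs₁
  -- descend the section
  let F : CategoryTheory.Over j₁ ⥤ Scheme.{u} := CategoryTheory.Over.forget j₁ ⋙ D
  let cF : Cone F := c.whisker (CategoryTheory.Over.forget j₁)
  have hcF : IsLimit cF := (Functor.Initial.isLimitWhiskerEquiv (CategoryTheory.Over.forget j₁) c).symm hc
  let tF : F ⟶ (Functor.const _).obj (D.obj j₁) :=
    { app := fun k => D.map k.hom
      naturality := fun k k' ψ => by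
        show D.map ψ.left ≫ D.map k'.hom = D.map k.hom ≫ 𝟙 _
        rw [Category.comp_id, ← D.map_comp, CategoryTheory.Over.w] }
  have : ∀ k, IsAffine (F.obj k) := fun k => hD k.left
  have : ∀ {k k' : CategoryTheory.Over j₁} (ψ : k ⟶ k'), IsAffineHom (F.map ψ) := fun ψ => inferInstance
  obtain ⟨k, e', he', he₀⟩ := Scheme.exists_π_app_comp_eq_of_locallyOfFinitePresentation F tF e₀ cF hcF σ (by
    ext k
    exact (c.w k.hom).trans hσ.symm)
  refine ⟨k.left, e' ≫ pullback.fst _ _ ≫ q.left, ?_, ?_⟩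
  · have hn : pullback.fst l.left Δ.left ≫ q.left ≫ m.left =
        pullback.fst l.left Δ.left ≫ p.left ≫ t.app j₁ := by
      have h₁ := congrArg CommaMorphism.left hl₁
      have h₂ := congrArg CommaMorphism.left hl₂
      have h₃ := congrArg CommaMorphism.left hΔ₁
      have h₄ := congrArg CommaMorphism.left hΔ₂
      simp only [Over.comp_left, Over.id_left] at h₁ h₂ h₃ h₄
      rw [← h₁, show p.left ≫ t.app j₁ = (p.left ≫ (tV j₁).left) from rfl, ← h₂, pullback.condition_assoc,
        pullback.condition_assoc, h₃, h₄]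
    rw [Category.assoc, Category.assoc, hn, ← Category.assoc (pullback.fst _ _), ← Category.assoc e', he₀]
    exact htn k.hom
  · show cF.π.app k ≫ e' ≫ pullback.fst _ _ ≫ q.left = g
    rw [← Category.assoc, he', pullback.lift_fst_assoc, ← Over.comp_left, hs₂]
    rfl

end Groth.Agent.LfpLim
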