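import Groth.Agent.SpDesc.EtModel
import Groth.Agent.SpDesc.StageHom
import Groth.Agent.LimPresLocal.Basic

/-!
# Sections of spaces locally of finite presentation over a stage of a limit of affine schemes
-/

set_option autoImplicit false
set_option linter.style.haveILetI false

universe u

open CategoryTheory CategoryTheory.Limits AlgebraicGeometry Opposite

set_option backward.isDefEq.respectTransparency false

namespace Groth.Agent.LfpLim

open _root_.AlgSp Groth.Agent.AlgSpLib Groth.Agent.LimPresLocal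

variable {S : Scheme.{u}}

section tower

variable {J : Type u} [SmallCategory J] [IsCofiltered J] (G : J ⥤ Over S) (L : Cone G)
  (hL : IsLimit ((Over.forget S).mapCone L)) [∀ j, CompactSpace (G.obj j).left]
  [∀ j, QuasiSeparatedSpace (G.obj j).left] (hGa : ∀ {i j : J} (φ : i ⟶ j), IsAffineHom (G.map φ).left)
  {B : Over S} (t : ∀ j, G.obj j ⟶ B) (ht : ∀ {i j : J} (φ : i ⟶ j), G.map φ ≫ t j = t i)

/-- the structure maps of a tower over a base -/
noncomputable def structMap : G ⋙ Over.forget S ⟶ (Functor.const J).obj B.left where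
  app j := (t j).left
  naturality i j φ := by
    show (G.map φ).left ≫ (t j).left = (t i).left ≫ 𝟙 _
    rw [Category.comp_id, ← Over.comp_left, ht φ]

include hL hGa ht in
theorem exists_stage {U : Over S} (ρ : U ⟶ B) [LocallyOfFinitePresentation ρ.left] (j₀ : J) (g : L.pt ⟶ U)
    (hg : g ≫ ρ = L.π.app j₀ ≫ t j₀) :
    ∃ (k : J) (_ : k ⟶ j₀) (g' : G.obj k ⟶ U), g' ≫ ρ = t k ∧ L.π.app k ≫ g' = g := by
  have : ∀ {i j : J} (φ : i ⟶ j), IsAffineHom ((G ⋙ Over.forget S).map φ) := fun φ => hGa φ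
  have : ∀ j, CompactSpace ((G ⋙ Over.forget S).obj j) := fun j => inferInstanceAs (CompactSpace (G.obj j).left)
  have : ∀ j, QuasiSeparatedSpace ((G ⋙ Over.forget S).obj j) := fun j =>
    inferInstanceAs (QuasiSeparatedSpace (G.obj j).left)
  have hπ : ∀ j, L.π.app j ≫ t j = L.π.app j₀ ≫ t j₀ := fun j => by
    obtain ⟨k, φ, ψ, -⟩ := IsCofilteredOrEmpty.cone_objs j j₀
    rw [← L.w φ, ← L.w ψ, Category.assoc, Category.assoc, ht, ht]
  obtain ⟨k, g', h₁, h₂⟩ := Scheme.exists_π_app_comp_eq_of_locallyOfFinitePresentation (G ⋙ Over.forget S)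
    (structMap G t ht) ρ.left ((Over.forget S).mapCone L) hL g.left (by
      ext j
      show (L.π.app j).left ≫ (t j).left = g.left ≫ ρ.left
      rw [← Over.comp_left, ← Over.comp_left, hg, hπ])
  let gk : G.obj k ⟶ U := Over.homMk g' (by
    rw [← Over.w ρ, reassoc_of% h₂]
    exact Over.w (t k))
  have e₁ : L.π.app k ≫ gk = g := Over.OverMorphism.ext h₁
  have e₂ : gk ≫ ρ = t k := Over.OverMorphism.ext h₂
  obtain ⟨n, φ, ψ, -⟩ := IsCofilteredOrEmpty.cone_objs k j₀
  exact ⟨n, ψ, G.map φ ≫ gk, by rw [Category.assoc, e₂, ht], by rw [← Category.assoc, L.w, e₁]⟩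

include hL hGa ht in
theorem exists_eq_stage {U : Over S} (ρ : U ⟶ B) [LocallyOfFiniteType ρ.left] {k : J} (g g' : G.obj k ⟶ U)
    (hg : g ≫ ρ = t k) (hg' : g' ≫ ρ = t k) (e : L.π.app k ≫ g = L.π.app k ≫ g') :
    ∃ (m : J) (φ : m ⟶ k), G.map φ ≫ g = G.map φ ≫ g' := by
  have : ∀ {i j : J} (φ : i ⟶ j), IsAffineHom ((G ⋙ Over.forget S).map φ) := fun φ => hGa φ
  have : ∀ j, CompactSpace ((G ⋙ Over.forget S).obj j) := fun j => inferInstanceAs (CompactSpace (G.obj j).left)
  obtain ⟨m, φ, hφ⟩ := Scheme.exists_hom_comp_eq_comp_of_locallyOfFiniteType (G ⋙ Over.forget S)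
    (structMap G t ht) ρ.left ((Over.forget S).mapCone L) hL g.left g'.left (congrArg CommaMorphism.left hg).symm
    (congrArg CommaMorphism.left hg').symm (congrArg CommaMorphism.left e)
  exact ⟨m, φ, Over.OverMorphism.ext hφ⟩

include hL hGa ht in
/-- two points of a chart with the same image in the space at the limit have it at a stage -/
theorem exists_eq_stage_space {F : Sp S} (hF : IsAlgSpace F) {U : Over S} (u : (yon S).obj U ⟶ F)
    (hu : RepWith @Etale u) (ρF : F ⟶ (yon S).obj B) (ρ : U ⟶ B) (hρ : u ≫ ρF = (yon S).map ρ)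
    [LocallyOfFinitePresentation ρ.left] {k : J} (g g' : G.obj k ⟶ U) (hg : g ≫ ρ = t k) (hg' : g' ≫ ρ = t k)
    (e : (yon S).map (L.π.app k ≫ g) ≫ u = (yon S).map (L.π.app k ≫ g') ≫ u) :
    ∃ (m : J) (φ : m ⟶ k), (yon S).map (G.map φ ≫ g) ≫ u = (yon S).map (G.map φ ≫ g') ≫ u := by
  obtain ⟨R, p, q, sq⟩ := exists_pullback hF.diag u u
  have : Etale p.left := (repWith_yon_iff p).1 (repWith_baseChange sq.flip hu)
  have hpq : p ≫ ρ = q ≫ ρ := (yon S).map_injective (by
    rw [Functor.map_comp, Functor.map_comp, ← hρ, ← Category.assoc, ← Category.assoc, sq.w])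
  have : LocallyOfFinitePresentation (p ≫ ρ).left := by
    rw [Over.comp_left]
    infer_instance
  obtain ⟨z, hz⟩ := exists_map_eq (sq.lift ((yon S).map (L.π.app k ≫ g)) ((yon S).map (L.π.app k ≫ g')) e)
  have hz₁ : z ≫ p = L.π.app k ≫ g := (yon S).map_injective (by rw [Functor.map_comp, hz, sq.lift_fst])
  have hz₂ : z ≫ q = L.π.app k ≫ g' := (yon S).map_injective (by rw [Functor.map_comp, hz, sq.lift_snd])
  obtain ⟨n, ψ, r, hr, hrz⟩ := exists_stage G L hL hGa t ht (p ≫ ρ) k z (by
    rw [reassoc_of% hz₁, hg])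
  obtain ⟨m, φ, hm⟩ := exists_eq_stage G L hL hGa t ht ρ (r ≫ p) (G.map ψ ≫ g) (by rw [Category.assoc, hr])
    (by rw [Category.assoc, hg, ht]) (by rw [reassoc_of% hrz, hz₁, ← Category.assoc, L.w])
  obtain ⟨m', φ', hm'⟩ := exists_eq_stage G L hL hGa t ht ρ (G.map φ ≫ r ≫ q) (G.map φ ≫ G.map ψ ≫ g')
    (by rw [Category.assoc, Category.assoc, ← hpq, hr, ht]) (by rw [Category.assoc, Category.assoc, hg', ht, ht])
    (by rw [← Category.assoc, L.w, reassoc_of% hrz, hz₂, ← Category.assoc, L.w, ← Category.assoc, L.w])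
  refine ⟨m', φ' ≫ φ ≫ ψ, ?_⟩
  rw [G.map_comp, G.map_comp, Category.assoc, Category.assoc, Category.assoc, Category.assoc, ← hm, ← hm']
  simp only [Functor.map_comp, Category.assoc]
  rw [sq.w]

end tower

/-- an etale surjective cover of an affine scheme is refined by an affine one -/
theorem exists_affine_refinement {W T : Scheme.{u}} [IsAffine T] (h : W ⟶ T) [Etale h] [Surjective h] :
    ∃ (W' : Scheme.{u}) (g : W' ⟶ W), IsAffine W' ∧ Etale (g ≫ h) ∧ Surjective (g ≫ h) := by
  obtain ⟨s, hs⟩ := isCompact_univ.elim_finite_subcover (fun O : W.affineOpens => h '' (O.1 : Set W))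
    (fun O => h.isOpenMap _ O.1.2) (fun x _ => by
      obtain ⟨w, rfl⟩ := h.surjective x
      obtain ⟨_, ⟨O, hO, rfl⟩, hwO, -⟩ := W.isBasis_affineOpens.exists_subset_of_mem_open (Set.mem_univ w) isOpen_univ
      exact Set.mem_iUnion.2 ⟨⟨O, hO⟩, w, hwO, rfl⟩)
  let X : s → Scheme.{u} := fun O => O.1.1.toScheme
  let g : ∐ X ⟶ W := Sigma.desc fun O => O.1.1.ι
  have : ∀ O, IsAffine (X O) := fun O => O.1.2
  refine ⟨∐ X, g, inferInstance, ?_, ⟨fun x => ?_⟩⟩
  · rw [IsZariskiLocalAtSource.iff_of_openCover (P := @Etale) (sigmaOpenCover X)]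
    intro O
    show Etale (Sigma.ι X O ≫ g ≫ h)
    rw [← Category.assoc, Sigma.ι_desc]
    infer_instance
  · obtain ⟨O, hO, w, hw, hx⟩ := Set.mem_iUnion₂.1 (hs (Set.mem_univ x))
    refine ⟨Sigma.ι X ⟨O, hO⟩ ⟨w, hw⟩, ?_⟩
    rw [← Scheme.Hom.comp_apply, ← Category.assoc, Sigma.ι_desc]
    exact hx

/-- etale surjective maps of schemes are epimorphisms in sheaves, with descent -/
theorem exists_desc {V T : Over S} (v : V ⟶ T) [Etale v.left] [Surjective v.left] {F : Sp S}
    (y : (yon S).obj V ⟶ F)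
    (H : ∀ {R : Over S} (a b : R ⟶ V), a ≫ v = b ≫ v → (yon S).map a ≫ y = (yon S).map b ≫ y) :
    ∃ x : (yon S).obj T ⟶ F, (yon S).map v ≫ x = y := by
  obtain ⟨R, a, b, sq⟩ := exists_pullback (IsAlgSpace.yon_obj T).diag ((yon S).map v) ((yon S).map v)
  have := isLocallySurjective_of_atlas ((repWith_yon_iff (P := @Etale) v).2 inferInstance)
    ((repWith_yon_iff (P := @Surjective) v).2 inferInstance)
  obtain ⟨hcol⟩ := isColimit_of_isPullback sq
  refine ⟨hcol.desc (Cofork.ofπ y (H a b ((yon S).map_injective (by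
    rw [Functor.map_comp, Functor.map_comp, sq.w])))), hcol.fac _ WalkingParallelPair.one⟩

theorem cancel_cover {V T : Over S} (v : V ⟶ T) [Etale v.left] [Surjective v.left] {F : Sp S}
    {x x' : (yon S).obj T ⟶ F} (e : (yon S).map v ≫ x = (yon S).map v ≫ x') : x = x' := by
  obtain ⟨R, a, b, sq⟩ := exists_pullback (IsAlgSpace.yon_obj T).diag ((yon S).map v) ((yon S).map v)
  have := isLocallySurjective_of_atlas ((repWith_yon_iff (P := @Etale) v).2 inferInstance)
    ((repWith_yon_iff (P := @Surjective) v).2 inferInstance)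
  obtain ⟨hcol⟩ := isColimit_of_isPullback sq
  exact Cofork.IsColimit.hom_ext hcol e

section limit

variable {I : Type u} [SmallCategory I] (D : I ⥤ Over S) (c : Cone D) (i₀ : I)
  {V : Scheme.{u}} (v : V ⟶ (D.obj i₀).left)

/-- the tower of base changes of `v` -/
noncomputable def pieceTower : CategoryTheory.Over i₀ ⥤ Over S where
  obj := piece D i₀ v
  map m := LimPresLocal.trans D i₀ v m
  map_id a := by
    refine Over.OverMorphism.ext (pullback.hom_ext ?_ ?_) <;> simp
  map_comp m m' := by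
    refine Over.OverMorphism.ext (pullback.hom_ext ?_ ?_) <;> simp [LimPresLocal.trans]

/-- the cone on the tower of base changes -/
noncomputable def pieceCone : Cone (pieceTower D i₀ v) where
  pt := pieceInf D c i₀ v
  π :=
    { app := fun a => prj D c i₀ v a
      naturality := fun a b m => (Category.id_comp _).trans (prj_trans D c i₀ v m).symm }

theorem exists_isLimit_pieceCone [IsCofiltered I] (hc : IsLimit ((Over.forget S).mapCone c)) :
    Nonempty (IsLimit ((Over.forget S).mapCone (pieceCone D c i₀ v))) := by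
  haveI : IsConnected I := IsCofiltered.isConnected I
  haveI : IsConnected (CategoryTheory.Over i₀) := IsCofiltered.isConnected _
  have h1 := isLimitOfPreserves (Over.pullback v ⋙ Over.forget V) (Over.isLimitConePost i₀ hc)
  refine ⟨IsLimit.ofIsoLimit ((IsLimit.postcomposeHomEquiv
    (NatIso.ofComponents (fun _ => Iso.refl _) (fun m => ?_)) _).symm h1) (Cone.ext (Iso.refl _) fun a => ?_)⟩
  · refine pullback.hom_ext ?_ ?_ <;> simp [pieceTower, LimPresLocal.trans]
  · refine pullback.hom_ext ?_ ?_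
    · simp [pieceCone, prj]
      exact pullback.lift_fst _ _ _
    · simp [pieceCone, prj]
      exact pullback.lift_snd _ _ _

variable [IsCofiltered I] [∀ i, IsAffine (D.obj i).left] [CompactSpace V] [QuasiSeparatedSpace V]
  [QuasiCompact v] [QuasiSeparated v]

instance (a : CategoryTheory.Over i₀) : CompactSpace ((pieceTower D i₀ v).obj a).left :=
  QuasiCompact.compactSpace_of_compactSpace (pullback.fst (D.map a.hom).left v)

instance (a : CategoryTheory.Over i₀) : QuasiSeparatedSpace ((pieceTower D i₀ v).obj a).left :=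
  quasiSeparatedSpace_of_quasiSeparated (pullback.fst (D.map a.hom).left v)

omit [CompactSpace V] [QuasiSeparatedSpace V] [QuasiCompact v] [QuasiSeparated v] [IsCofiltered I] in
theorem isAffineHom_trans {a b : CategoryTheory.Over i₀} (m : b ⟶ a) :
    IsAffineHom ((pieceTower D i₀ v).map m).left := by
  show IsAffineHom (LimPresLocal.trans D i₀ v m).left
  have : IsAffineHom ((LimPresLocal.trans D i₀ v m).left ≫ pullback.snd (D.map a.hom).left v) := by
    rw [trans_snd]
    haveI : IsAffineHom (D.map b.hom).left := inferInstance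
    exact MorphismProperty.pullback_snd (P := @IsAffineHom) _ _ inferInstance
  exact IsAffineHom.of_comp _ (pullback.snd (D.map a.hom).left v)

end limit

variable {I : Type u} [SmallCategory I] [IsCofiltered I] {D : I ⥤ Over S} {c : Cone D}

/-- the chart of a space locally of finite presentation over a scheme -/
theorem exists_chart {B : Over S} {F : Sp S} (hF : IsAlgSpace F) (ρF : F ⟶ (yon S).obj B)
    (hρ : LocP @LocallyOfFinitePresentation ρF) :
    ∃ (U : Over S) (u : (yon S).obj U ⟶ F) (ρ : U ⟶ B), RepWith @Etale u ∧ RepWith @Surjective u ∧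
      u ≫ ρF = (yon S).map ρ ∧ LocallyOfFinitePresentation ρ.left := by
  obtain ⟨U, u, -, -, hu, hus, -⟩ := exists_affine_chart_family hF
  obtain ⟨ρ, hρe⟩ := exists_map_eq (u ≫ ρF)
  exact ⟨U, u, ρ, hu, hus, hρe.symm, hρ u (𝟙 _) ρ hu (repWith_id _ B) (by rw [Category.comp_id, hρe])⟩

set_option maxHeartbeats 1600000 in
/-- points of a space locally of finite presentation over a stage come from a stage -/
theorem exists_section (hc : IsLimit ((Over.forget S).mapCone c)) (hD : ∀ i, IsAffine (D.obj i).left)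
    (hT : IsAffine c.pt.left) {i : I} {F : Sp S} (hF : IsAlgSpace F) (ρF : F ⟶ (yon S).obj (D.obj i))
    (hρF : LocP @LocallyOfFinitePresentation ρF) (x : (yon S).obj c.pt ⟶ F)
    (hx : x ≫ ρF = (yon S).map (c.π.app i)) :
    ∃ (k : I) (φ : k ⟶ i) (x' : (yon S).obj (D.obj k) ⟶ F),
      x' ≫ ρF = (yon S).map (D.map φ) ∧ (yon S).map (c.π.app k) ≫ x' = x := by
  haveI := hD
  haveI := hT
  obtain ⟨U, u, ρ, hu, hus, hρ, hlfp⟩ := exists_chart hF ρF hρF
  -- a lift on an affine etale cover
  obtain ⟨P, pT, pU, sqP⟩ := exists_pullback hF.diag x u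
  haveI : Etale pT.left := (repWith_yon_iff pT).1 (repWith_baseChange sqP.flip hu)
  haveI : Surjective pT.left := (repWith_yon_iff pT).1 (repWith_baseChange sqP.flip hus)
  obtain ⟨T', gT, hT', het, hsu⟩ := exists_affine_refinement pT.left
  obtain ⟨T₀, V₀, q, u₀, w, hV₀, hcT₀, hqT₀, hlT₀, -, hq, hqs, sqM⟩ := SpDesc.exists_etale_model (gT ≫ pT.left)
  -- descend the cover
  let tT : D ⋙ Over.forget S ⟶ (Functor.const I).obj (⊤_ Scheme.{u}) :=
    { app := fun j => terminal.from _
      naturality := fun _ _ _ => terminalIsTerminal.hom_ext _ _ }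
  haveI : ∀ j, IsAffine ((D ⋙ Over.forget S).obj j) := hD
  haveI : ∀ {j k : I} (φ : j ⟶ k), IsAffineHom ((D ⋙ Over.forget S).map φ) := fun φ => inferInstance
  obtain ⟨j, uj, huj, -⟩ := Scheme.exists_π_app_comp_eq_of_locallyOfFinitePresentation (D ⋙ Over.forget S) tT
    (terminal.from T₀) ((Over.forget S).mapCone c) hc u₀ (by
      ext j
      exact terminalIsTerminal.hom_ext _ _)
  obtain ⟨j₀, φj, φi, -⟩ := IsCofilteredOrEmpty.cone_objs j i
  let uJ : (D.obj j₀).left ⟶ T₀ := (D.map φj).left ≫ uj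
  have huJ : (c.π.app j₀).left ≫ uJ = u₀ := by
    refine (Category.assoc _ _ _).symm.trans ?_
    rw [← Over.comp_left, c.w]
    exact huj
  let v := pullback.fst uJ q
  haveI : CompactSpace ↥(pullback uJ q) := QuasiCompact.compactSpace_of_compactSpace v
  haveI : QuasiSeparatedSpace ↥(pullback uJ q) := quasiSeparatedSpace_of_quasiSeparated v
  let G := pieceTower D j₀ v
  let L := pieceCone D c j₀ v
  obtain ⟨hL⟩ := exists_isLimit_pieceCone D c j₀ v hc
  have hGa : ∀ {a b : CategoryTheory.Over j₀} (m : a ⟶ b), IsAffineHom (G.map m).left :=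
    fun m => isAffineHom_trans D j₀ v m
  let t : ∀ a, G.obj a ⟶ D.obj i := fun a => toStage D j₀ v a ≫ D.map (a.hom ≫ φi)
  have ht : ∀ {a b : CategoryTheory.Over j₀} (m : a ⟶ b), G.map m ≫ t b = t a := fun {a b} m => by
    show LimPresLocal.trans D j₀ v m ≫ toStage D j₀ v b ≫ _ = _
    rw [← Category.assoc, trans_toStage, Category.assoc, ← D.map_comp, ← Category.assoc, Over.w m]
  -- the lift on the base change
  have sqI : IsPullback (pullback.fst (c.π.app j₀).left v) (pullback.snd (c.π.app j₀).left v ≫ pullback.snd uJ q)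
      u₀ q := by
    have := (IsPullback.of_hasPullback (c.π.app j₀).left v).flip.paste_horiz (IsPullback.of_hasPullback uJ q).flip
    rw [huJ] at this
    exact this.flip
  let θ : (pieceInf D c j₀ v).left ≅ T' := sqI.isoPullback ≪≫ sqM.flip.isoPullback.symm
  have hθ : θ.hom ≫ gT ≫ pT.left = pullback.fst _ _ := by
    simp [θ]
  let l : pieceInf D c j₀ v ⟶ P := Over.homMk (θ.hom ≫ gT) (by
    rw [← Over.w pT, Category.assoc, reassoc_of% hθ]
    rfl)
  have hl : l ≫ pT = toInf D c j₀ v := Over.OverMorphism.ext ((Category.assoc _ _ _).trans hθ)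
  have hlU : (yon S).map (l ≫ pU) ≫ u = (yon S).map (toInf D c j₀ v) ≫ x := by
    rw [Functor.map_comp_assoc, ← sqP.w, ← Functor.map_comp_assoc, hl]
  let o₀ : CategoryTheory.Over j₀ := CategoryTheory.Over.mk (𝟙 j₀)
  have hlρ : (l ≫ pU) ≫ ρ = L.π.app o₀ ≫ t o₀ := (yon S).map_injective (by
    rw [Functor.map_comp, ← hρ, ← Category.assoc, hlU, Category.assoc, hx, ← Functor.map_comp]
    congr 1
    show _ = prj D c j₀ v o₀ ≫ toStage D j₀ v o₀ ≫ _
    rw [← Category.assoc, prj_toStage, Category.assoc, c.w])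
  obtain ⟨a, -, g, hgρ, hgl⟩ := exists_stage G L hL hGa t ht ρ o₀ (l ≫ pU) hlρ
  -- agreement on the overlaps
  let v₂ : pullback v v ⟶ (D.obj j₀).left := pullback.fst v v ≫ v
  haveI : CompactSpace ↥(pullback v v) := QuasiCompact.compactSpace_of_compactSpace (pullback.fst v v)
  haveI : QuasiSeparatedSpace ↥(pullback v v) := quasiSeparatedSpace_of_quasiSeparated (pullback.fst v v)
  let G₂ := pieceTower D j₀ v₂
  let L₂ := pieceCone D c j₀ v₂
  obtain ⟨hL₂⟩ := exists_isLimit_pieceCone D c j₀ v₂ hc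
  have hGa₂ : ∀ {a b : CategoryTheory.Over j₀} (m : a ⟶ b), IsAffineHom (G₂.map m).left :=
    fun m => isAffineHom_trans D j₀ v₂ m
  let t₂ : ∀ a, G₂.obj a ⟶ D.obj i := fun a => toStage D j₀ v₂ a ≫ D.map (a.hom ≫ φi)
  have ht₂ : ∀ {a b : CategoryTheory.Over j₀} (m : a ⟶ b), G₂.map m ≫ t₂ b = t₂ a := fun {a b} m => by
    show LimPresLocal.trans D j₀ v₂ m ≫ toStage D j₀ v₂ b ≫ _ = _
    rw [← Category.assoc, trans_toStage, Category.assoc, ← D.map_comp, ← Category.assoc, Over.w m]
  have hg₁ : pullback.fst v v ≫ v = v₂ := rfl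
  have hg₂ : pullback.snd v v ≫ v = v₂ := pullback.condition.symm
  let c₁ := change D j₀ (pullback.fst v v) hg₁
  let c₂ := change D j₀ (pullback.snd v v) hg₂
  obtain ⟨b, m, hm⟩ := exists_eq_stage_space G₂ L₂ hL₂ hGa₂ t₂ ht₂ hF u hu ρF ρ hρ (k := a) (c₁ a ≫ g) (c₂ a ≫ g)
    (by rw [Category.assoc, hgρ, ← Category.assoc, change_toStage]) (by rw [Category.assoc, hgρ, ← Category.assoc, change_toStage]) (by
      show (yon S).map (prj D c j₀ v₂ a ≫ c₁ a ≫ g) ≫ u = (yon S).map (prj D c j₀ v₂ a ≫ c₂ a ≫ g) ≫ u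
      rw [← Category.assoc, ← Category.assoc, prj_change, prj_change, Category.assoc, Category.assoc]
      rw [show prj D c j₀ v a ≫ g = l ≫ pU from hgl, (yon S).map_comp _ (l ≫ pU), (yon S).map_comp _ (l ≫ pU),
        Category.assoc, Category.assoc, hlU, ← Functor.map_comp_assoc, ← Functor.map_comp_assoc, changeInf_toInf,
        changeInf_toInf])
  -- glue
  have hm₁ : G₂.map m ≫ c₁ a = c₁ b ≫ G.map m := (change_trans D j₀ _ hg₁ m).symm
  have hm₂ : G₂.map m ≫ c₂ a = c₂ b ≫ G.map m := (change_trans D j₀ _ hg₂ m).symm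
  haveI : Etale (toStage D j₀ v b).left := inferInstanceAs (Etale (pullback.fst _ v))
  haveI : Surjective (toStage D j₀ v b).left := inferInstanceAs (Surjective (pullback.fst _ v))
  obtain ⟨x', hx'⟩ := exists_desc (toStage D j₀ v b) ((yon S).map (G.map m ≫ g) ≫ u) (fun {R} r r' e => by
    have e' : r.left ≫ pullback.fst _ _ = r'.left ≫ pullback.fst _ _ := congrArg CommaMorphism.left e
    let h : R ⟶ piece D j₀ v₂ b := Over.homMk
      (pullback.lift (r.left ≫ pullback.fst _ _)
        (pullback.lift (r.left ≫ pullback.snd _ _) (r'.left ≫ pullback.snd _ _) (by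
          simp only [Category.assoc]
          rw [← pullback.condition, reassoc_of% e']))
        (by simp only [Category.assoc, v₂, pullback.lift_fst_assoc]; rw [pullback.condition])) (by
      show pullback.lift _ _ _ ≫ pullback.fst _ _ ≫ _ = _
      rw [pullback.lift_fst_assoc, Category.assoc]
      exact Over.w r)
    have h₁ : h ≫ c₁ b = r := by
      refine Over.OverMorphism.ext (pullback.hom_ext ?_ ?_) <;> simp [h, c₁, change]
    have h₂ : h ≫ c₂ b = r' := by
      refine Over.OverMorphism.ext (pullback.hom_ext ?_ ?_)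
      · simp [h, c₂, change, e']
      · simp [h, c₂, change]
    rw [← h₁, ← h₂, ← Functor.map_comp_assoc, ← Functor.map_comp_assoc, Category.assoc, Category.assoc,
      ← reassoc_of% hm₁, ← reassoc_of% hm₂, (yon S).map_comp h, (yon S).map_comp h, Category.assoc, Category.assoc,
      hm])
  refine ⟨b.left, b.hom ≫ φi, x', cancel_cover (toStage D j₀ v b) ?_, ?_⟩
  · rw [reassoc_of% hx', hρ, ← Functor.map_comp, ← Functor.map_comp, Category.assoc, hgρ, ht]
  · haveI : Etale (toInf D c j₀ v).left := inferInstanceAs (Etale (pullback.fst _ v))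
    haveI : Surjective (toInf D c j₀ v).left := inferInstanceAs (Surjective (pullback.fst _ v))
    refine cancel_cover (toInf D c j₀ v) ?_
    rw [← Functor.map_comp_assoc, ← prj_toStage, Functor.map_comp_assoc, hx', ← Functor.map_comp_assoc,
      ← Category.assoc]
    show (yon S).map ((L.π.app b ≫ G.map m) ≫ g) ≫ u = _
    rw [L.w, hgl, hlU]

set_option maxHeartbeats 1600000 in
/-- two points over a stage agreeing at the limit agree at a stage -/
theorem exists_section_eq (hc : IsLimit ((Over.forget S).mapCone c)) (hD : ∀ i, IsAffine (D.obj i).left)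
    {i : I} {F : Sp S} (hF : IsAlgSpace F) (ρF : F ⟶ (yon S).obj (D.obj i))
    (hρF : LocP @LocallyOfFinitePresentation ρF) (x x' : (yon S).obj (D.obj i) ⟶ F)
    (hx : x ≫ ρF = 𝟙 _) (hx' : x' ≫ ρF = 𝟙 _)
    (e : (yon S).map (c.π.app i) ≫ x = (yon S).map (c.π.app i) ≫ x') :
    ∃ (k : I) (φ : k ⟶ i), (yon S).map (D.map φ) ≫ x = (yon S).map (D.map φ) ≫ x' := by
  haveI := hD
  obtain ⟨U, u, ρ, hu, hus, hρ, hlfp⟩ := exists_chart hF ρF hρF
  obtain ⟨P, pT, pU, sq⟩ := exists_pullback hF.diag x u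
  obtain ⟨P', pT', pU', sq'⟩ := exists_pullback hF.diag x' u
  haveI : Etale pT.left := (repWith_yon_iff pT).1 (repWith_baseChange sq.flip hu)
  haveI : Surjective pT.left := (repWith_yon_iff pT).1 (repWith_baseChange sq.flip hus)
  haveI : Etale pT'.left := (repWith_yon_iff pT').1 (repWith_baseChange sq'.flip hu)
  haveI : Surjective pT'.left := (repWith_yon_iff pT').1 (repWith_baseChange sq'.flip hus)
  obtain ⟨V, gV, hV, het, hsu⟩ := exists_affine_refinement (pullback.fst pT.left pT'.left ≫ pT.left)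
  let v : V ⟶ (D.obj i).left := gV ≫ pullback.fst pT.left pT'.left ≫ pT.left
  let G := pieceTower D i v
  let L := pieceCone D c i v
  obtain ⟨hL⟩ := exists_isLimit_pieceCone D c i v hc
  have hGa : ∀ {a b : CategoryTheory.Over i} (m : a ⟶ b), IsAffineHom (G.map m).left :=
    fun m => isAffineHom_trans D i v m
  let t : ∀ a, G.obj a ⟶ D.obj i := fun a => toStage D i v a ≫ D.map a.hom
  have ht : ∀ {a b : CategoryTheory.Over i} (m : a ⟶ b), G.map m ≫ t b = t a := fun {a b} m => by
    show LimPresLocal.trans D i v m ≫ toStage D i v b ≫ _ = _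
    rw [← Category.assoc, trans_toStage, Category.assoc, ← D.map_comp, Over.w m]
  let o₀ : CategoryTheory.Over i := CategoryTheory.Over.mk (𝟙 i)
  have hcond : pullback.fst (D.map o₀.hom).left v ≫ (D.map o₀.hom).left = pullback.snd _ _ ≫ v := pullback.condition
  let g₁ : G.obj o₀ ⟶ P := Over.homMk (pullback.snd _ _ ≫ gV ≫ pullback.fst pT.left pT'.left) (by
    rw [← Over.w pT]
    simp only [Category.assoc]
    show _ = pullback.fst _ _ ≫ (D.obj o₀.left).hom
    rw [← Over.w (D.map o₀.hom), reassoc_of% hcond]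
    simp only [v, Category.assoc])
  let g₂ : G.obj o₀ ⟶ P' := Over.homMk (pullback.snd _ _ ≫ gV ≫ pullback.snd pT.left pT'.left) (by
    rw [← Over.w pT']
    simp only [Category.assoc]
    show _ = pullback.fst _ _ ≫ (D.obj o₀.left).hom
    rw [← Over.w (D.map o₀.hom), reassoc_of% hcond]
    simp only [v, Category.assoc, pullback.condition_assoc])
  have hg₁ : g₁ ≫ pT = t o₀ := Over.OverMorphism.ext (by
    show (pullback.snd _ _ ≫ gV ≫ pullback.fst pT.left pT'.left) ≫ pT.left = pullback.fst _ _ ≫ _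
    rw [hcond]
    simp [v])
  have hg₂ : g₂ ≫ pT' = t o₀ := Over.OverMorphism.ext (by
    show (pullback.snd _ _ ≫ gV ≫ pullback.snd pT.left pT'.left) ≫ pT'.left = pullback.fst _ _ ≫ _
    rw [hcond]
    simp [v, pullback.condition])
  have hu₁ : (yon S).map (g₁ ≫ pU) ≫ u = (yon S).map (t o₀) ≫ x := by
    rw [Functor.map_comp_assoc, ← sq.w, ← Functor.map_comp_assoc, hg₁]
  have hu₂ : (yon S).map (g₂ ≫ pU') ≫ u = (yon S).map (t o₀) ≫ x' := by
    rw [Functor.map_comp_assoc, ← sq'.w, ← Functor.map_comp_assoc, hg₂]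
  have hρ₁ : (g₁ ≫ pU) ≫ ρ = t o₀ := (yon S).map_injective (by
    rw [Functor.map_comp, ← hρ, ← Category.assoc, hu₁, Category.assoc, hx, Category.comp_id])
  have hρ₂ : (g₂ ≫ pU') ≫ ρ = t o₀ := (yon S).map_injective (by
    rw [Functor.map_comp, ← hρ, ← Category.assoc, hu₂, Category.assoc, hx', Category.comp_id])
  have hlim : L.π.app o₀ ≫ t o₀ = toInf D c i v ≫ c.π.app i := by
    show prj D c i v o₀ ≫ toStage D i v o₀ ≫ _ = _
    rw [← Category.assoc, prj_toStage, Category.assoc, c.w]
  obtain ⟨b, m, hm⟩ := exists_eq_stage_space G L hL hGa t ht hF u hu ρF ρ hρ (g₁ ≫ pU) (g₂ ≫ pU') hρ₁ hρ₂ (by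
    rw [(yon S).map_comp _ (g₁ ≫ pU), (yon S).map_comp _ (g₂ ≫ pU'), Category.assoc, Category.assoc, hu₁, hu₂,
      ← Category.assoc, ← Category.assoc ((yon S).map (L.π.app o₀)) _ x', ← (yon S).map_comp, hlim, (yon S).map_comp,
      Category.assoc, Category.assoc, e])
  haveI : Etale v := het
  haveI : Surjective v := hsu
  haveI : Etale (toStage D i v b).left := inferInstanceAs (Etale (pullback.fst _ v))
  haveI : Surjective (toStage D i v b).left := inferInstanceAs (Surjective (pullback.fst _ v))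
  refine ⟨b.left, b.hom, cancel_cover (toStage D i v b) ?_⟩
  rw [← Functor.map_comp_assoc, ← Functor.map_comp_assoc]
  show (yon S).map (t b) ≫ x = (yon S).map (t b) ≫ x'
  rw [← ht m, (yon S).map_comp, Category.assoc, Category.assoc, ← hu₁, ← hu₂, ← Category.assoc,
    ← Category.assoc ((yon S).map (G.map m)) _ u, ← (yon S).map_comp, ← (yon S).map_comp, hm]

end Groth.Agent.LfpLim
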