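import Groth.Agent.LfpLim.Crit
import Groth.Agent.LfpLim.Sections

/-!
# Locally of finite presentation is relative limit preservation
-/

set_option autoImplicit false

universe u

open CategoryTheory CategoryTheory.Limits AlgebraicGeometry Opposite

set_option backward.isDefEq.respectTransparency false

namespace Groth.Agent.LfpLim

open _root_.AlgSp Groth.Agent.AlgSpLib

variable {S : Scheme.{u}} {X Y : Sp S}

/-- Yoneda for sheaves on schemes over `S` -/
noncomputable abbrev yE {U : Over S} {F : Sp S} : ((yon S).obj U ⟶ F) ≃ F.obj.obj (op U) := (J S).uliftYonedaEquiv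

theorem crit_of_locP (hX : IsAlgSpace X) (hY : IsAlgSpace Y) (f : X ⟶ Y)
    (hf : LocP @LocallyOfFinitePresentation f) : LimPres.Crit f.hom where
  surj := fun I _ _ D c hc hD hT i g s e => by
    let y : (yon S).obj (D.obj i) ⟶ Y := yE.symm g
    let x : (yon S).obj c.pt ⟶ X := yE.symm s
    have he : x ≫ f = (yon S).map (c.π.app i) ≫ y := yE.injective (by
      rw [GrothendieckTopology.uliftYonedaEquiv_comp, ← GrothendieckTopology.uliftYonedaEquiv_naturality,
        Equiv.apply_symm_apply, Equiv.apply_symm_apply]
      exact e)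
    have sq : IsPullback (pullback.fst y f) (pullback.snd y f) y f := IsPullback.of_hasPullback y f
    have hF := isAlgSpace_of_isPullback_space hY (IsAlgSpace.yon_obj _) hX sq
    have hρ : LocP @LocallyOfFinitePresentation (pullback.fst y f) :=
      locP_baseChange etST_lfp hX hY hF (IsAlgSpace.yon_obj _) sq.flip hf
    obtain ⟨k, φ, z, hz, hzx⟩ := exists_section hc hD hT hF (pullback.fst y f) hρ
      (sq.lift ((yon S).map (c.π.app i)) x he.symm) (sq.lift_fst _ _ _)
    refine ⟨k, φ, yE (z ≫ pullback.snd y f), ?_, ?_⟩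
    · rw [← GrothendieckTopology.uliftYonedaEquiv_comp, Category.assoc, ← sq.w, ← Category.assoc, hz,
        ← GrothendieckTopology.uliftYonedaEquiv_naturality, Equiv.apply_symm_apply]
    · show X.obj.map (c.π.app k).op _ = s
      rw [GrothendieckTopology.uliftYonedaEquiv_naturality, ← Category.assoc, hzx, sq.lift_snd]
      exact yE.apply_symm_apply s
  inj := fun I _ _ D c hc hD hT i s s' e h => by
    let x : (yon S).obj (D.obj i) ⟶ X := yE.symm s
    let x' : (yon S).obj (D.obj i) ⟶ X := yE.symm s'
    have he : x ≫ f = x' ≫ f := yE.injective (by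
      rw [GrothendieckTopology.uliftYonedaEquiv_comp, GrothendieckTopology.uliftYonedaEquiv_comp,
        Equiv.apply_symm_apply, Equiv.apply_symm_apply]
      exact e)
    have sq : IsPullback (pullback.fst (x ≫ f) f) (pullback.snd (x ≫ f) f) (x ≫ f) f :=
      IsPullback.of_hasPullback _ f
    have hF := isAlgSpace_of_isPullback_space hY (IsAlgSpace.yon_obj _) hX sq
    have hρ : LocP @LocallyOfFinitePresentation (pullback.fst (x ≫ f) f) :=
      locP_baseChange etST_lfp hX hY hF (IsAlgSpace.yon_obj _) sq.flip hf
    obtain ⟨k, φ, hk⟩ := exists_section_eq hc hD hF (pullback.fst (x ≫ f) f) hρ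
      (sq.lift (𝟙 _) x (Category.id_comp _)) (sq.lift (𝟙 _) x' ((Category.id_comp _).trans he))
      (sq.lift_fst _ _ _) (sq.lift_fst _ _ _) (sq.hom_ext (by simp) (by
        simp only [Category.assoc, IsPullback.lift_snd]
        refine yE.injective ?_
        rw [← GrothendieckTopology.uliftYonedaEquiv_naturality, ← GrothendieckTopology.uliftYonedaEquiv_naturality,
          Equiv.apply_symm_apply, Equiv.apply_symm_apply]
        exact h))
    refine ⟨k, φ, ?_⟩
    have h' := congrArg (fun z => yE (z ≫ pullback.snd (x ≫ f) f)) hk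
    simp only [Category.assoc, IsPullback.lift_snd] at h'
    rwa [← GrothendieckTopology.uliftYonedaEquiv_naturality, ← GrothendieckTopology.uliftYonedaEquiv_naturality,
      Equiv.apply_symm_apply, Equiv.apply_symm_apply] at h'

theorem locP_of_crit (hX : IsAlgSpace X) (hY : IsAlgSpace Y) (f : X ⟶ Y) (h : LimPres.Crit f.hom) :
    LocP @LocallyOfFinitePresentation f :=
  locP_lfp_of_surj hX hY f fun I _ _ D c hc hD hT x i y e => by
    obtain ⟨k, φ, s, hs, hsx⟩ := h.surj D c hc hD hT i (yE y) (yE x) (by
      rw [← GrothendieckTopology.uliftYonedaEquiv_comp, e, ← GrothendieckTopology.uliftYonedaEquiv_naturality])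
    refine ⟨k, φ, yE.symm s, yE.injective ?_, yE.injective ?_⟩
    · rw [← GrothendieckTopology.uliftYonedaEquiv_naturality, Equiv.apply_symm_apply]
      exact hsx
    · rw [GrothendieckTopology.uliftYonedaEquiv_comp, ← GrothendieckTopology.uliftYonedaEquiv_naturality,
        Equiv.apply_symm_apply]
      exact hs

end Groth.Agent.LfpLim
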